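import Cfsg.Agent.H575.SR.Inv

/-!
# TEAM SR, task SR-G2: gluing inverters along an orthogonal decomposition (helper575)

`Pieces F` : the statement of THEOREM PIECE (every nonzero space has a cyclic or a pair piece, if `2 ≠ 0` or `1` is not
an eigenvalue). `isVert`: every isometry is inverted by an `ε`-similitude of square one.
-/

set_option autoImplicit false

namespace Cfsg.Agent.H575.SR

open Polynomial Module
open Cfsg.Agent.H721.SR

universe u v

section

variable {F V : Type*} [Field F] [AddCommGroup V] [Module F V]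
variable {B : V →ₗ[F] V →ₗ[F] F} {ε : F} {g : V ≃ₗ[F] V}

theorem St.refl (hS : St B ε g) {x y : V} (h : B x y = 0) : B y x = 0 := by
  rw [hS.symm, h, mul_zero]

/-- the orthogonal complement -/
def perp (B : V →ₗ[F] V →ₗ[F] F) (U : Submodule F V) : Submodule F V where
  carrier := {x | ∀ y ∈ U, B y x = 0}
  add_mem' := fun {a b} ha hb y hy => by rw [map_add, ha y hy, hb y hy, add_zero]
  zero_mem' := fun y _ => map_zero _
  smul_mem' := fun c x hx y hy => by rw [map_smul, hx y hy, smul_zero]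

theorem mem_perp {U : Submodule F V} {x : V} : x ∈ perp B U ↔ ∀ y ∈ U, B y x = 0 := Iff.rfl

theorem isCompl_perp [FiniteDimensional F V] (hS : St B ε g) {U : Submodule F V} (hU : NdOn B U) :
    IsCompl U (perp B U) := by
  have h0 : (LinearMap.BilinForm.IsRefl (B : LinearMap.BilinForm F V)) := fun x y h => St.refl hS h
  have e : perp B U = LinearMap.BilinForm.orthogonal B U := rfl
  rw [e, LinearMap.BilinForm.isCompl_orthogonal_iff_disjoint h0, Submodule.disjoint_def]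
  intro x hx hx'
  exact hU x hx fun y hy => St.refl hS (hx' y hy)

theorem perp_iff (hS : St B ε g) {U : Submodule F V} (hg : ∀ x, g x ∈ U ↔ x ∈ U) (x : V) :
    g x ∈ perp B U ↔ x ∈ perp B U := by
  rw [mem_perp, mem_perp]
  constructor
  · intro h y hy
    rw [← hS.isom]
    exact h _ ((hg y).2 hy)
  · intro h y hy
    have h1 : g⁻¹ y ∈ U := by rw [← hg, apply_inv_self']; exact hy
    have h2 := hS.isom (g⁻¹ y) x
    rw [apply_inv_self'] at h2
    rw [h2]
    exact h _ h1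

/-- the restriction of the form -/
def rB (B : V →ₗ[F] V →ₗ[F] F) (U : Submodule F V) : ↥U →ₗ[F] ↥U →ₗ[F] F := B.compl₁₂ U.subtype U.subtype

@[simp] theorem rB_apply (U : Submodule F V) (x y : U) : rB B U x y = B x y := rfl

theorem St.restrict (hS : St B ε g) {U : Submodule F V} (hg : ∀ x, g x ∈ U ↔ x ∈ U) (hU : NdOn B U) :
    St (rB B U) ε (res g U hg) where
  eps := hS.eps
  symm x y := hS.symm _ _
  nondeg x h := Subtype.ext (hU x x.2 fun y hy => h ⟨y, hy⟩)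
  isom x y := hS.isom _ _

theorem ndOn_perp [FiniteDimensional F V] (hS : St B ε g) {U : Submodule F V} (hU : NdOn B U) : NdOn B (perp B U) := by
  intro x hx h
  apply hS.nondeg
  intro y
  obtain ⟨a, ha, b, hb, rfl⟩ : ∃ a ∈ U, ∃ b ∈ perp B U, a + b = y := by
    rw [← Submodule.mem_sup, (isCompl_perp hS hU).sup_eq_top]
    exact Submodule.mem_top
  rw [map_add, h b hb, add_zero]
  exact St.refl hS (hx a ha)

/-- **Gluing inverters.** -/
theorem glue (hS : St B ε g) {U W : Submodule F V} (hc : IsCompl U W) (hUW : ∀ x ∈ U, ∀ y ∈ W, B x y = 0)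
    (hgU : ∀ x, g x ∈ U ↔ x ∈ U) (hgW : ∀ x, g x ∈ W ↔ x ∈ W) {hU : ↥U ≃ₗ[F] ↥U} {hW : ↥W ≃ₗ[F] ↥W}
    (hU2 : hU * hU = 1) (hW2 : hW * hW = 1) (hUg : hU * res g U hgU * hU⁻¹ = (res g U hgU)⁻¹)
    (hWg : hW * res g W hgW * hW⁻¹ = (res g W hgW)⁻¹) (hUB : ∀ x y : U, B (hU x) (hU y) = ε * B x y)
    (hWB : ∀ x y : W, B (hW x) (hW y) = ε * B x y) :
    ∃ h : V ≃ₗ[F] V, h * h = 1 ∧ h * g * h⁻¹ = g⁻¹ ∧ (∀ x y, B (h x) (h y) = ε * B x y) ∧
      (∀ x : U, h x = hU x) ∧ ∀ x : W, h x = hW x := by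
  set e := Submodule.prodEquivOfIsCompl U W hc with he
  set h : V ≃ₗ[F] V := e.symm.trans ((hU.prodCongr hW).trans e) with hh
  have hval : ∀ (x : U) (y : W), h ((x : V) + y) = (hU x : V) + hW y := by
    intro x y
    have h1 : (x : V) + y = e (x, y) := (Submodule.coe_prodEquivOfIsCompl' U W hc (x, y)).symm
    rw [hh, LinearEquiv.trans_apply, LinearEquiv.trans_apply, h1, LinearEquiv.symm_apply_apply]
    exact Submodule.coe_prodEquivOfIsCompl' U W hc _
  have hU3 : ∀ x : U, hU (hU x) = x := fun x => congrArg (fun t : ↥U ≃ₗ[F] ↥U => t x) hU2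
  have hW3 : ∀ x : W, hW (hW x) = x := fun x => congrArg (fun t : ↥W ≃ₗ[F] ↥W => t x) hW2
  have hdec : ∀ x : V, ∃ (a : U) (b : W), (a : V) + b = x := by
    intro x
    refine ⟨(e.symm x).1, (e.symm x).2, ?_⟩
    have h1 := Submodule.coe_prodEquivOfIsCompl' U W hc (e.symm x)
    rw [← he, LinearEquiv.apply_symm_apply] at h1
    exact h1.symm
  have h2 : h * h = 1 := by
    ext x
    obtain ⟨a, b, rfl⟩ := hdec x
    show h (h ((a : V) + b)) = (a : V) + b
    rw [hval, hval, hU3, hW3]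
  refine ⟨h, h2, ?_, ?_, ?_, ?_⟩
  · rw [inverts_iff h2]
    intro x
    obtain ⟨a, b, rfl⟩ := hdec x
    have h3 := congrArg Subtype.val ((inverts_iff hU2).1 hUg a)
    have h4 := congrArg Subtype.val ((inverts_iff hW2).1 hWg b)
    rw [res_inv_coe] at h3 h4
    have h5 : g ((a : V) + b) = (res g U hgU a : V) + (res g W hgW b : V) := by rw [map_add]; rfl
    rw [h5, hval, hval, map_add, h3, h4]
  · intro x y
    obtain ⟨a, b, rfl⟩ := hdec x
    obtain ⟨c, d, rfl⟩ := hdec y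
    rw [hval, hval]
    simp only [map_add, LinearMap.add_apply]
    rw [hUB, hWB, hUW _ (hU a).2 _ (hW d).2, hUW _ a.2 _ d.2, St.refl hS (hUW _ (hU c).2 _ (hW b).2),
      St.refl hS (hUW _ c.2 _ b.2)]
    ring
  · intro x
    have h3 := hval x 0
    simpa using h3
  · intro x
    have h3 := hval 0 x
    simpa using h3

theorem cyc_ne_bot {v : V} (hv : v ≠ 0) : cyc g v ≠ ⊥ := fun h => hv (by
  have := self_mem_cyc g v
  rw [h] at this
  exact (Submodule.mem_bot F).1 this)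

theorem ann_ne_zero {f : F[X]} {k : ℕ} {v : V} (hf : Irreducible f) (hk : 0 < k) (h : Ann g v (f ^ k)) : v ≠ 0 := by
  rintro rfl
  have h1 : f ^ k ∣ 1 := (h 1).1 (map_zero _)
  exact hf.not_isUnit (isUnit_of_dvd_one ((dvd_pow_self f hk.ne').trans h1))

end

/-- THEOREM PIECE for the spaces over `F` -/
def Pieces (F : Type v) [Field F] : Prop :=
  ∀ (V : Type u) [AddCommGroup V] [Module F V] [FiniteDimensional F V] [Nontrivial V]
    (B : V →ₗ[F] V →ₗ[F] F) (ε : F) (g : V ≃ₗ[F] V), St B ε g → ((2 : F) ≠ 0 ∨ ∀ x, g x = x → x = 0) →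
      (∃ (f : F[X]) (k : ℕ) (v : V), CPiece B g f k v) ∨ ∃ (f : F[X]) (k : ℕ) (v w : V), PPiece B g f k v w

/-- THEOREM PIECE for the elements without eigenvalues `±1` -/
def Pieces' (F : Type v) [Field F] : Prop :=
  ∀ (V : Type u) [AddCommGroup V] [Module F V] [FiniteDimensional F V] [Nontrivial V]
    (B : V →ₗ[F] V →ₗ[F] F) (ε : F) (g : V ≃ₗ[F] V), St B ε g → (∀ x, g x = x → x = 0) → (∀ x, g x = -x → x = 0) →
      (∃ (f : F[X]) (k : ℕ) (v : V), CPiece B g f k v) ∨ ∃ (f : F[X]) (k : ℕ) (v w : V), PPiece B g f k v w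

section

variable {F : Type v} [Field F]

/-- the induction, for a property `C` of elements inherited by restrictions -/
theorem isVert_aux (C : ∀ (V : Type u) [AddCommGroup V] [Module F V], (V ≃ₗ[F] V) → Prop)
    (hC : ∀ (V : Type u) [AddCommGroup V] [Module F V] (g : V ≃ₗ[F] V) (U : Submodule F V)
      (h : ∀ x, g x ∈ U ↔ x ∈ U), C V g → C ↥U (res g U h))
    (hP : ∀ (V : Type u) [AddCommGroup V] [Module F V] [FiniteDimensional F V] [Nontrivial V]
      (B : V →ₗ[F] V →ₗ[F] F) (ε : F) (g : V ≃ₗ[F] V), St B ε g → C V g →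
      (∃ (f : F[X]) (k : ℕ) (v : V), CPiece B g f k v) ∨ ∃ (f : F[X]) (k : ℕ) (v w : V), PPiece B g f k v w)
    (n : ℕ) : ∀ (V : Type u) [AddCommGroup V] [Module F V] [FiniteDimensional F V]
      (B : V →ₗ[F] V →ₗ[F] F) (ε : F) (g : V ≃ₗ[F] V), finrank F V = n → St B ε g → C V g →
      ∃ h : V ≃ₗ[F] V, h * h = 1 ∧ h * g * h⁻¹ = g⁻¹ ∧ ∀ x y, B (h x) (h y) = ε * B x y := by
  induction n using Nat.strong_induction_on with
  | _ n ih =>
    intro V _ _ _ B ε g hn hS hCg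
    rcases subsingleton_or_nontrivial V with hsub | hnt
    · refine ⟨1, one_mul 1, ?_, fun x y => ?_⟩
      · ext x
        exact Subsingleton.elim _ _
      · have hx : x = 0 := Subsingleton.elim _ _
        subst hx
        simp
    · -- a nondegenerate invariant subspace with an inverter
      obtain ⟨U, hU0, hgU, hU, hh, hh2, hhg, hhB⟩ : ∃ (U : Submodule F V) (_ : U ≠ ⊥) (hgU : ∀ x, g x ∈ U ↔ x ∈ U)
          (_ : NdOn B U) (hh : ↥U ≃ₗ[F] ↥U), hh * hh = 1 ∧ hh * res g U hgU * hh⁻¹ = (res g U hgU)⁻¹ ∧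
          ∀ x y : U, B (hh x) (hh y) = ε * B x y := by
        rcases hP V B ε g hS hCg with ⟨f, k, v, hp⟩ | ⟨f, k, v, w, hp⟩
        · obtain ⟨h, h1, h2, -, h3⟩ := inv_cyc hS hp.nd
          exact ⟨_, cyc_ne_bot (ann_ne_zero hp.irr hp.pos hp.ann), _, hp.nd, h, h1, h2, h3⟩
        · obtain ⟨h, h1, h2, -, -, h3⟩ := inv_pair hS hp.isov hp.isow hp.nd
          refine ⟨_, ?_, _, hp.nd, h, h1, h2, h3⟩
          intro h0
          apply cyc_ne_bot (g := g) (ann_ne_zero hp.irr hp.pos hp.annv)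
          rw [eq_bot_iff, ← h0]
          exact le_sup_left
      have hc := isCompl_perp hS hU
      have hgW := perp_iff hS hgU
      have hWnd := ndOn_perp hS hU
      have hlt : finrank F ↥(perp B U) < n := by
        have h1 := Submodule.finrank_add_eq_of_isCompl hc
        have h2 : 0 < finrank F U := by
          rw [Nat.pos_iff_ne_zero]
          intro h0
          exact hU0 (Submodule.finrank_eq_zero.1 h0)
        omega
      obtain ⟨k, hk1, hk2, hk3⟩ := ih _ hlt ↥(perp B U) (rB B (perp B U)) ε (res g (perp B U) hgW) rfl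
        (St.restrict hS hgW hWnd) (hC V g _ hgW hCg)
      obtain ⟨h, h1, h2, h3, -, -⟩ := glue hS hc (fun x hx y hy => hy x hx) hgU hgW hh2 hk1 hhg hk2 hhB
        (fun x y => hk3 x y)
      exact ⟨h, h1, h2, h3⟩

/-- **Every isometry is inverted by an involutory `ε`-similitude** (given THEOREM PIECE). -/
theorem isVert (hP : Pieces.{u} F) {V : Type u} [AddCommGroup V] [Module F V] [FiniteDimensional F V]
    {B : V →ₗ[F] V →ₗ[F] F} {ε : F} {g : V ≃ₗ[F] V} (hS : St B ε g)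
    (hg : (2 : F) ≠ 0 ∨ ∀ x, g x = x → x = 0) :
    ∃ h : V ≃ₗ[F] V, h * h = 1 ∧ h * g * h⁻¹ = g⁻¹ ∧ ∀ x y, B (h x) (h y) = ε * B x y :=
  isVert_aux (fun V _ _ g => (2 : F) ≠ 0 ∨ ∀ x, g x = x → x = 0)
    (fun _ _ _ _ _ _ hg => hg.imp_right fun h1 x hx => Subtype.ext (h1 x (congrArg Subtype.val hx)))
    (fun V _ _ _ _ B ε g hS hg => hP V B ε g hS hg) _ V B ε g rfl hS hg

/-- the version for `g` without eigenvalues `±1`, any characteristic, with a half-dimensional fixed space -/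
theorem isVert_half (hP : Pieces'.{u} F) {V : Type u} [AddCommGroup V] [Module F V] [FiniteDimensional F V]
    {B : V →ₗ[F] V →ₗ[F] F} {ε : F} {g : V ≃ₗ[F] V} (hS : St B ε g)
    (hg1 : ∀ x, g x = x → x = 0) (hg2 : ∀ x, g x = -x → x = 0) :
    ∃ h : V ≃ₗ[F] V, h * h = 1 ∧ h * g * h⁻¹ = g⁻¹ ∧ (∀ x y, B (h x) (h y) = ε * B x y) ∧
      2 * finrank F (LinearMap.ker ((h : V →ₗ[F] V) - 1)) = finrank F V ∧
      finrank F (LinearMap.ker ((h : V →ₗ[F] V) - 1)) = finrank F V / 2 := by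
  obtain ⟨h, h1, h2, h3⟩ := isVert_aux (fun V _ _ g => (∀ x, g x = x → x = 0) ∧ ∀ x, g x = -x → x = 0)
    (fun _ _ _ _ _ _ hg => ⟨fun x hx => Subtype.ext (hg.1 x (congrArg Subtype.val hx)),
      fun x hx => Subtype.ext (hg.2 x (congrArg Subtype.val hx))⟩)
    (fun V _ _ _ _ B ε g hS hg => hP V B ε g hS hg.1 hg.2) _ V B ε g rfl hS ⟨hg1, hg2⟩
  have h4 := fix_half h1 h2 hg1 hg2
  exact ⟨h, h1, h2, h3, h4, by omega⟩

theorem Pieces.toPieces' (hP : Pieces.{u} F) : Pieces'.{u} F :=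
  fun V _ _ _ _ B ε g hS h1 _ => hP V B ε g hS (Or.inr h1)

/-- the fixed spaces on the pieces -/
theorem fix_half_cyc {V : Type*} [AddCommGroup V] [Module F V] [FiniteDimensional F V] {B : V →ₗ[F] V →ₗ[F] F}
    {ε : F} {g : V ≃ₗ[F] V} (hS : St B ε g) {v : V} (hnd : NdOn B (cyc g v)) (hg1 : ∀ x, g x = x → x = 0)
    (hg2 : ∀ x, g x = -x → x = 0) :
    ∃ h : ↥(cyc g v) ≃ₗ[F] ↥(cyc g v), h * h = 1 ∧
      h * res g _ (cyc_iff g v) * h⁻¹ = (res g _ (cyc_iff g v))⁻¹ ∧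
      (∀ x y : cyc g v, B (h x) (h y) = ε * B x y) ∧
      2 * finrank F (LinearMap.ker ((h : cyc g v →ₗ[F] cyc g v) - 1)) = finrank F (cyc g v) := by
  obtain ⟨h, h1, h2, -, h3⟩ := inv_cyc hS hnd
  exact ⟨h, h1, h2, h3, fix_half h1 h2 (fun x hx => Subtype.ext (hg1 x (congrArg Subtype.val hx)))
    fun x hx => Subtype.ext (hg2 x (congrArg Subtype.val hx))⟩

theorem fix_half_pair {V : Type*} [AddCommGroup V] [Module F V] [FiniteDimensional F V] {B : V →ₗ[F] V →ₗ[F] F}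
    {ε : F} {g : V ≃ₗ[F] V} (hS : St B ε g) {v w : V} (hv : Iso0 B (cyc g v)) (hw : Iso0 B (cyc g w))
    (hnd : NdOn B (cyc g v ⊔ cyc g w)) (hg1 : ∀ x, g x = x → x = 0) (hg2 : ∀ x, g x = -x → x = 0) :
    ∃ h : ↥(cyc g v ⊔ cyc g w) ≃ₗ[F] ↥(cyc g v ⊔ cyc g w), h * h = 1 ∧
      h * res g _ (pair_iff g v w) * h⁻¹ = (res g _ (pair_iff g v w))⁻¹ ∧
      (∀ x y : ↥(cyc g v ⊔ cyc g w), B (h x) (h y) = ε * B x y) ∧
      2 * finrank F (LinearMap.ker ((h : ↥(cyc g v ⊔ cyc g w) →ₗ[F] ↥(cyc g v ⊔ cyc g w)) - 1)) =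
        finrank F ↥(cyc g v ⊔ cyc g w) := by
  obtain ⟨h, h1, h2, -, -, h3⟩ := inv_pair hS hv hw hnd
  exact ⟨h, h1, h2, h3, fix_half h1 h2 (fun x hx => Subtype.ext (hg1 x (congrArg Subtype.val hx)))
    fun x hx => Subtype.ext (hg2 x (congrArg Subtype.val hx))⟩

end

end Cfsg.Agent.H575.SR
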