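import Cfsg.Agent.H721.SR.Orth

/-!
# TEAM SR, task SR-G2: inverters (helper575)

* `gram`      : a symmetry of a spanning family up to `ε` gives a similitude of square one;
* `inv_cyc`   : the inverter of a cyclic space;
* `inv_pair`  : the inverter of a pair of totally isotropic cyclic spaces;
* `fix_half`  : an inverter of square one of an element without eigenvalue `±1` has a half-dimensional fixed space;
* `glue`      : inverters of a nondegenerate invariant subspace and of its complement;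
* `isVert`, `isVert_half` : the inverter of an isometry.
-/

set_option autoImplicit false

namespace Cfsg.Agent.H575.SR

open Polynomial Module
open Cfsg.Agent.H721.SR

universe u

variable {F V : Type*} [Field F] [AddCommGroup V] [Module F V]

section Gram

variable {ι : Type*} {B : V →ₗ[F] V →ₗ[F] F} {ε : F} {U : Submodule F V} {u : ι → V} {σ : ι → ι}

theorem gram_key (hB : ∀ i j, B (u (σ i)) (u (σ j)) = ε * B (u i) (u j)) (c d : ι →₀ F) :
    B (Finsupp.linearCombination F (fun i => u (σ i)) c) (Finsupp.linearCombination F (fun i => u (σ i)) d) =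
      ε * B (Finsupp.linearCombination F u c) (Finsupp.linearCombination F u d) := by
  have h : (B.compl₁₂ (Finsupp.linearCombination F (fun i => u (σ i)))
        (Finsupp.linearCombination F (fun i => u (σ i)))) =
      ε • (B.compl₁₂ (Finsupp.linearCombination F u) (Finsupp.linearCombination F u)) := by
    ext i j
    simpa using hB i j
  have h1 := congrArg (fun T : (ι →₀ F) →ₗ[F] (ι →₀ F) →ₗ[F] F => T c d) h
  simpa using h1

/-- A symmetry `σ` of a spanning family of `U` preserving `B` up to `ε` gives an involution of `U`. -/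
theorem gram (hU : NdOn B U) (hmem : ∀ i, u i ∈ U) (hspan : U ≤ Submodule.span F (Set.range u))
    (hσ : ∀ i, u (σ (σ i)) = u i) (hB : ∀ i j, B (u (σ i)) (u (σ j)) = ε * B (u i) (u j)) :
    ∃ h : ↥U ≃ₗ[F] ↥U, h * h = 1 ∧ (∀ i, ((h ⟨u i, hmem i⟩ : U) : V) = u (σ i)) ∧
      ∀ x y : U, B (h x) (h y) = ε * B x y := by
  classical
  have hrange : U = Submodule.span F (Set.range u) :=
    le_antisymm hspan (Submodule.span_le.2 (by rintro _ ⟨i, rfl⟩; exact hmem i))
  set Φ := Finsupp.linearCombination F u with hΦ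
  set Ψ := Finsupp.linearCombination F (fun i => u (σ i)) with hΨ
  have hΦU : ∀ c, Φ c ∈ U := fun c => by
    rw [hrange, hΦ, ← Finsupp.range_linearCombination]
    exact ⟨c, rfl⟩
  have hΨΦ : ∀ c, Ψ c = Φ (c.mapDomain σ) := fun c => by
    rw [hΨ, hΦ, Finsupp.linearCombination_mapDomain]
    rfl
  have hΨU : ∀ c, Ψ c ∈ U := fun c => by rw [hΨΦ]; exact hΦU _
  have hΨΨ : ∀ c, Ψ (c.mapDomain σ) = Φ c := fun c => by
    rw [hΨ, hΦ, Finsupp.linearCombination_mapDomain]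
    congr 2
    funext i
    exact hσ i
  have hsurj : ∀ x ∈ U, ∃ c, Φ c = x := by
    intro x hx
    rw [hrange, ← Finsupp.range_linearCombination] at hx
    exact hx
  have hker : ∀ c, Φ c = 0 → Ψ c = 0 := by
    intro c hc
    refine hU _ (hΨU c) fun y hy => ?_
    obtain ⟨d, rfl⟩ := hsurj y hy
    rw [← hΨΨ d, hΨ, gram_key hB, ← hΦ, hc, map_zero, LinearMap.zero_apply, mul_zero]
  -- the maps with values in `U`
  let ΦU : (ι →₀ F) →ₗ[F] ↥U := Φ.codRestrict U hΦU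
  let ΨU : (ι →₀ F) →ₗ[F] ↥U := Ψ.codRestrict U hΨU
  have hΦs : Function.Surjective ΦU := by
    rintro ⟨x, hx⟩
    obtain ⟨c, hc⟩ := hsurj x hx
    exact ⟨c, Subtype.ext hc⟩
  have hk : LinearMap.ker ΦU ≤ LinearMap.ker ΨU := by
    intro c hc
    rw [LinearMap.mem_ker] at hc ⊢
    exact Subtype.ext (hker c (congrArg Subtype.val hc))
  let h0 : ↥U →ₗ[F] ↥U := (LinearMap.ker ΦU).liftQ ΨU hk ∘ₗ (ΦU.quotKerEquivOfSurjective hΦs).symm.toLinearMap
  have hh0 : ∀ c, h0 (ΦU c) = ΨU c := by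
    intro c
    have h1 : (ΦU.quotKerEquivOfSurjective hΦs).symm (ΦU c) = Submodule.Quotient.mk c := by
      rw [LinearEquiv.symm_apply_eq]
      rfl
    show (LinearMap.ker ΦU).liftQ ΨU hk ((ΦU.quotKerEquivOfSurjective hΦs).symm (ΦU c)) = ΨU c
    rw [h1]
    rfl
  have hΨU' : ∀ c, ΨU c = ΦU (c.mapDomain σ) := fun c => Subtype.ext (hΨΦ c)
  have hinv : Function.Involutive h0 := by
    intro x
    obtain ⟨c, rfl⟩ := hΦs x
    rw [hh0, hΨU', hh0]
    exact Subtype.ext (hΨΨ c)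
  refine ⟨LinearEquiv.ofInvolutive h0 hinv, ?_, ?_, ?_⟩
  · ext x
    exact congrArg Subtype.val (hinv x)
  · intro i
    have h1 : (⟨u i, hmem i⟩ : ↥U) = ΦU (Finsupp.single i 1) := by
      apply Subtype.ext
      show u i = Φ (Finsupp.single i 1)
      rw [hΦ, Finsupp.linearCombination_single, one_smul]
    show ((h0 ⟨u i, hmem i⟩ : ↥U) : V) = u (σ i)
    rw [h1, hh0]
    show Ψ (Finsupp.single i 1) = u (σ i)
    rw [hΨ, Finsupp.linearCombination_single, one_smul]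
  · intro x y
    obtain ⟨c, rfl⟩ := hΦs x
    obtain ⟨d, rfl⟩ := hΦs y
    show B (h0 (ΦU c) : ↥U) (h0 (ΦU d) : ↥U) = _
    rw [hh0, hh0]
    exact gram_key hB c d

end Gram

/-! ### Cyclic spaces -/

section Cyc

variable {B : V →ₗ[F] V →ₗ[F] F} {ε : F} {g : V ≃ₗ[F] V}

theorem zpow_mem_cyc (g : V ≃ₗ[F] V) (v : V) (i : ℤ) : (g ^ i) v ∈ cyc g v := Submodule.subset_span ⟨i, rfl⟩

theorem self_mem_cyc (g : V ≃ₗ[F] V) (v : V) : v ∈ cyc g v := by
  have h := zpow_mem_cyc g v 0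
  rwa [zpow_zero, LinearEquiv.coe_one, id_eq] at h

theorem apply_zpow (g : V ≃ₗ[F] V) (v : V) (i : ℤ) : g ((g ^ i) v) = (g ^ (i + 1)) v := by
  rw [add_comm, zpow_add, zpow_one]
  rfl

theorem inv_apply_zpow (g : V ≃ₗ[F] V) (v : V) (i : ℤ) : g⁻¹ ((g ^ i) v) = (g ^ (i - 1)) v := by
  rw [sub_eq_add_neg, add_comm, zpow_add, zpow_neg_one]
  rfl

theorem apply_mem_cyc (g : V ≃ₗ[F] V) {v x : V} (hx : x ∈ cyc g v) : g x ∈ cyc g v := by
  refine Submodule.span_induction (p := fun x _ => g x ∈ cyc g v) ?_ ?_ ?_ ?_ hx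
  · rintro _ ⟨i, rfl⟩
    rw [apply_zpow]
    exact zpow_mem_cyc _ _ _
  · rw [map_zero]; exact zero_mem _
  · intro x y _ _ h1 h2
    rw [map_add]; exact add_mem h1 h2
  · intro a x _ h
    rw [map_smul]; exact Submodule.smul_mem _ _ h

theorem inv_apply_mem_cyc (g : V ≃ₗ[F] V) {v x : V} (hx : x ∈ cyc g v) : g⁻¹ x ∈ cyc g v := by
  refine Submodule.span_induction (p := fun x _ => g⁻¹ x ∈ cyc g v) ?_ ?_ ?_ ?_ hx
  · rintro _ ⟨i, rfl⟩
    rw [inv_apply_zpow]
    exact zpow_mem_cyc _ _ _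
  · rw [map_zero]; exact zero_mem _
  · intro x y _ _ h1 h2
    rw [map_add]; exact add_mem h1 h2
  · intro a x _ h
    rw [map_smul]; exact Submodule.smul_mem _ _ h

theorem inv_apply_self' (g : V ≃ₗ[F] V) (x : V) : g⁻¹ (g x) = x := g.symm_apply_apply x

theorem apply_inv_self' (g : V ≃ₗ[F] V) (x : V) : g (g⁻¹ x) = x := g.apply_symm_apply x

theorem cyc_iff (g : V ≃ₗ[F] V) (v x : V) : g x ∈ cyc g v ↔ x ∈ cyc g v := by
  refine ⟨fun h => ?_, apply_mem_cyc g⟩
  have := inv_apply_mem_cyc g h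
  rwa [inv_apply_self'] at this

theorem isom_zpow (hS : St B ε g) (i : ℤ) (x y : V) : B ((g ^ i) x) ((g ^ i) y) = B x y := by
  have hn : ∀ n : ℕ, ∀ x y, B ((g ^ n) x) ((g ^ n) y) = B x y := by
    intro n
    induction n with
    | zero => intro x y; rw [pow_zero]; rfl
    | succ n ih =>
      intro x y
      rw [pow_succ]
      show B ((g ^ n) (g x)) ((g ^ n) (g y)) = B x y
      rw [ih, hS.isom]
  obtain ⟨n, rfl | rfl⟩ := Int.eq_nat_or_neg i
  · rw [zpow_natCast]; exact hn n x y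
  · have h := hn n ((g ^ (-(n : ℤ))) x) ((g ^ (-(n : ℤ))) y)
    have e : ∀ z, (g ^ n) ((g ^ (-(n : ℤ))) z) = z := by
      intro z
      have : g ^ n * g ^ (-(n : ℤ)) = 1 := by rw [zpow_neg, zpow_natCast, mul_inv_cancel]
      exact congrArg (fun t : V ≃ₗ[F] V => t z) this
    rw [e, e] at h
    exact h.symm

/-- `B(g^i x, g^j y) = B(g^(i-j) x, y)`, in symmetric form -/
theorem isom_neg (hS : St B ε g) (i j : ℤ) (x y : V) :
    B ((g ^ (-i)) x) ((g ^ (-j)) y) = ε * B ((g ^ i) y) ((g ^ j) x) := by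
  have h1 := isom_zpow hS (i + j) ((g ^ (-i)) x) ((g ^ (-j)) y)
  have e1 : (g ^ (i + j)) ((g ^ (-i)) x) = (g ^ j) x := by
    have : g ^ (i + j) * g ^ (-i) = g ^ j := by rw [← zpow_add]; congr 1; ring
    exact congrArg (fun t : V ≃ₗ[F] V => t x) this
  have e2 : (g ^ (i + j)) ((g ^ (-j)) y) = (g ^ i) y := by
    have : g ^ (i + j) * g ^ (-j) = g ^ i := by rw [← zpow_add]; congr 1; ring
    exact congrArg (fun t : V ≃ₗ[F] V => t y) this
  rw [e1, e2] at h1
  rw [← h1]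
  exact hS.symm _ _

/-- restriction of `g` to an invariant subspace -/
noncomputable def res (g : V ≃ₗ[F] V) (U : Submodule F V) (h : ∀ x, g x ∈ U ↔ x ∈ U) : ↥U ≃ₗ[F] ↥U where
  toFun x := ⟨g x, (h x).2 x.2⟩
  invFun x := ⟨g⁻¹ x, (h _).1 (by rw [apply_inv_self']; exact x.2)⟩
  map_add' x y := Subtype.ext (map_add g _ _)
  map_smul' a x := Subtype.ext (map_smul g _ _)
  left_inv x := Subtype.ext (inv_apply_self' g _)
  right_inv x := Subtype.ext (apply_inv_self' g _)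

@[simp] theorem res_coe (g : V ≃ₗ[F] V) (U : Submodule F V) (h : ∀ x, g x ∈ U ↔ x ∈ U) (x : U) :
    ((res g U h x : U) : V) = g x := rfl

@[simp] theorem res_inv_coe (g : V ≃ₗ[F] V) (U : Submodule F V) (h : ∀ x, g x ∈ U ↔ x ∈ U) (x : U) :
    (((res g U h)⁻¹ x : U) : V) = g⁻¹ x := rfl

/-- criterion for `h g h⁻¹ = g⁻¹` for `h² = 1` -/
theorem inverts_iff {W : Type*} [AddCommGroup W] [Module F W] {g h : W ≃ₗ[F] W} (h2 : h * h = 1) :
    h * g * h⁻¹ = g⁻¹ ↔ ∀ x, h (g x) = g⁻¹ (h x) := by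
  have hi : h⁻¹ = h := inv_eq_of_mul_eq_one_left h2
  have h3 : ∀ x, h (h x) = x := fun x => congrArg (fun t : W ≃ₗ[F] W => t x) h2
  constructor
  · intro h1 x
    have h4 := congrArg (fun t : W ≃ₗ[F] W => t (h x)) h1
    rw [hi] at h4
    have h5 : h (g (h (h x))) = g⁻¹ (h x) := h4
    rwa [h3] at h5
  · intro h1
    rw [hi]
    ext x
    show h (g (h x)) = g⁻¹ x
    rw [h1, h3]

/-- **The inverter of a nondegenerate cyclic space.** -/
theorem inv_cyc (hS : St B ε g) {v : V} (hnd : NdOn B (cyc g v)) :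
    ∃ h : ↥(cyc g v) ≃ₗ[F] ↥(cyc g v), h * h = 1 ∧
      h * res g _ (cyc_iff g v) * h⁻¹ = (res g _ (cyc_iff g v))⁻¹ ∧
      (∀ i : ℤ, ((h ⟨(g ^ i) v, zpow_mem_cyc g v i⟩ : cyc g v) : V) = (g ^ (-i)) v) ∧
      ∀ x y : cyc g v, B (h x) (h y) = ε * B x y := by
  obtain ⟨h, h2, hu, hB⟩ := gram (B := B) (ε := ε) (U := cyc g v) (u := fun i : ℤ => (g ^ i) v)
    (σ := fun i => -i) hnd (zpow_mem_cyc g v) le_rfl (fun i => by simp only [neg_neg]) (fun i j => by
      show B ((g ^ (-i)) v) ((g ^ (-j)) v) = ε * B ((g ^ i) v) ((g ^ j) v)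
      exact isom_neg hS i j v v)
  refine ⟨h, h2, ?_, hu, hB⟩
  rw [inverts_iff h2]
  have key : ∀ x ∈ cyc g v, ∀ hx : x ∈ cyc g v, h (res g _ (cyc_iff g v) ⟨x, hx⟩) =
      (res g _ (cyc_iff g v))⁻¹ (h ⟨x, hx⟩) := by
    intro x hx'
    refine Submodule.span_induction (p := fun x _ => ∀ hx : x ∈ cyc g v, h (res g _ (cyc_iff g v) ⟨x, hx⟩) =
      (res g _ (cyc_iff g v))⁻¹ (h ⟨x, hx⟩)) ?_ ?_ ?_ ?_ hx'
    · rintro _ ⟨i, rfl⟩ hx
      apply Subtype.ext
      have e1 : res g _ (cyc_iff g v) ⟨(g ^ i) v, hx⟩ = ⟨(g ^ (i + 1)) v, zpow_mem_cyc g v _⟩ :=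
        Subtype.ext (apply_zpow g v i)
      have h3 : ((h ⟨(g ^ (i + 1)) v, zpow_mem_cyc g v _⟩ : cyc g v) : V) = (g ^ (-(i + 1))) v := hu (i + 1)
      have h4 : ((h ⟨(g ^ i) v, hx⟩ : cyc g v) : V) = (g ^ (-i)) v := hu i
      rw [e1, h3, res_inv_coe, h4, inv_apply_zpow]
      congr 2
      ring
    · intro hx
      have e0 : (⟨0, hx⟩ : cyc g v) = 0 := rfl
      rw [e0, map_zero, map_zero, map_zero]
    · intro x y hx hy h1 h2 hxy
      have e0 : (⟨x + y, hxy⟩ : cyc g v) = ⟨x, hx⟩ + ⟨y, hy⟩ := rfl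
      rw [e0, map_add, map_add, map_add, map_add, h1 hx, h2 hy]
    · intro a x hx h1 hax
      have e0 : (⟨a • x, hax⟩ : cyc g v) = a • ⟨x, hx⟩ := rfl
      rw [e0, map_smul, map_smul, map_smul, map_smul, h1 hx]
  rintro ⟨x, hx⟩
  exact key x hx hx

/-! ### Pairs -/

/-- generators of a pair -/
def pg (g : V ≃ₗ[F] V) (v w : V) : ℤ ⊕ ℤ → V := Sum.elim (fun i => (g ^ i) v) (fun i => (g ^ i) w)

/-- the symmetry of the index set -/
def ps : ℤ ⊕ ℤ → ℤ ⊕ ℤ := Sum.elim (fun i => Sum.inr (-i)) (fun i => Sum.inl (-i))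

theorem pair_iff (g : V ≃ₗ[F] V) (v w x : V) : g x ∈ cyc g v ⊔ cyc g w ↔ x ∈ cyc g v ⊔ cyc g w := by
  constructor
  · intro h
    obtain ⟨a, ha, b, hb, hab⟩ := Submodule.mem_sup.1 h
    have : x = g⁻¹ a + g⁻¹ b := by rw [← map_add, hab, inv_apply_self']
    rw [this]
    exact Submodule.add_mem_sup (inv_apply_mem_cyc g ha) (inv_apply_mem_cyc g hb)
  · intro h
    obtain ⟨a, ha, b, hb, hab⟩ := Submodule.mem_sup.1 h
    rw [← hab, map_add]
    exact Submodule.add_mem_sup (apply_mem_cyc g ha) (apply_mem_cyc g hb)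

theorem pg_mem (g : V ≃ₗ[F] V) (v w : V) (i : ℤ ⊕ ℤ) : pg g v w i ∈ cyc g v ⊔ cyc g w := by
  rcases i with i | i
  · exact (le_sup_left : cyc g v ≤ _) (zpow_mem_cyc g v i)
  · exact (le_sup_right : cyc g w ≤ _) (zpow_mem_cyc g w i)

theorem le_span_pg (g : V ≃ₗ[F] V) (v w : V) : cyc g v ⊔ cyc g w ≤ Submodule.span F (Set.range (pg g v w)) := by
  refine sup_le ?_ ?_
  · refine Submodule.span_le.2 ?_
    rintro _ ⟨i, rfl⟩
    exact Submodule.subset_span ⟨Sum.inl i, rfl⟩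
  · refine Submodule.span_le.2 ?_
    rintro _ ⟨i, rfl⟩
    exact Submodule.subset_span ⟨Sum.inr i, rfl⟩

/-- **The inverter of a pair of totally isotropic cyclic spaces.** -/
theorem inv_pair (hS : St B ε g) {v w : V} (hv : Iso0 B (cyc g v)) (hw : Iso0 B (cyc g w))
    (hnd : NdOn B (cyc g v ⊔ cyc g w)) :
    ∃ h : ↥(cyc g v ⊔ cyc g w) ≃ₗ[F] ↥(cyc g v ⊔ cyc g w), h * h = 1 ∧
      h * res g _ (pair_iff g v w) * h⁻¹ = (res g _ (pair_iff g v w))⁻¹ ∧
      (∀ i : ℤ, ((h ⟨(g ^ i) v, pg_mem g v w (Sum.inl i)⟩ : ↥(cyc g v ⊔ cyc g w)) : V) = (g ^ (-i)) w) ∧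
      (∀ i : ℤ, ((h ⟨(g ^ i) w, pg_mem g v w (Sum.inr i)⟩ : ↥(cyc g v ⊔ cyc g w)) : V) = (g ^ (-i)) v) ∧
      ∀ x y : ↥(cyc g v ⊔ cyc g w), B (h x) (h y) = ε * B x y := by
  obtain ⟨h, h2, hu, hB⟩ := gram (B := B) (ε := ε) (U := cyc g v ⊔ cyc g w) (u := pg g v w)
    (σ := ps) hnd (pg_mem g v w) (le_span_pg g v w) (fun i => by
      rcases i with i | i
      · show (g ^ (- -i)) v = (g ^ i) v
        rw [neg_neg]
      · show (g ^ (- -i)) w = (g ^ i) w
        rw [neg_neg]) (fun i j => by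
      rcases i with i | i <;> rcases j with j | j
      · show B ((g ^ (-i)) w) ((g ^ (-j)) w) = ε * B ((g ^ i) v) ((g ^ j) v)
        rw [hw _ (zpow_mem_cyc _ _ _) _ (zpow_mem_cyc _ _ _), hv _ (zpow_mem_cyc _ _ _) _ (zpow_mem_cyc _ _ _),
          mul_zero]
      · show B ((g ^ (-i)) w) ((g ^ (-j)) v) = ε * B ((g ^ i) v) ((g ^ j) w)
        exact isom_neg hS i j w v
      · show B ((g ^ (-i)) v) ((g ^ (-j)) w) = ε * B ((g ^ i) w) ((g ^ j) v)
        exact isom_neg hS i j v w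
      · show B ((g ^ (-i)) v) ((g ^ (-j)) v) = ε * B ((g ^ i) w) ((g ^ j) w)
        rw [hw _ (zpow_mem_cyc _ _ _) _ (zpow_mem_cyc _ _ _), hv _ (zpow_mem_cyc _ _ _) _ (zpow_mem_cyc _ _ _),
          mul_zero])
  refine ⟨h, h2, ?_, fun i => hu (Sum.inl i), fun i => hu (Sum.inr i), hB⟩
  rw [inverts_iff h2]
  have key : ∀ x (hx : x ∈ cyc g v ⊔ cyc g w), h (res g _ (pair_iff g v w) ⟨x, hx⟩) =
      (res g _ (pair_iff g v w))⁻¹ (h ⟨x, hx⟩) := by
    intro x hx
    have hx' := le_span_pg g v w hx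
    -- generalise the membership proof
    suffices hh : ∀ hx : x ∈ cyc g v ⊔ cyc g w, h (res g _ (pair_iff g v w) ⟨x, hx⟩) =
        (res g _ (pair_iff g v w))⁻¹ (h ⟨x, hx⟩) from hh hx
    clear hx
    have hle : Submodule.span F (Set.range (pg g v w)) ≤ cyc g v ⊔ cyc g w :=
      Submodule.span_le.2 (by rintro _ ⟨i, rfl⟩; exact pg_mem g v w i)
    refine Submodule.span_induction (p := fun x _ => ∀ hx : x ∈ cyc g v ⊔ cyc g w,
      h (res g _ (pair_iff g v w) ⟨x, hx⟩) = (res g _ (pair_iff g v w))⁻¹ (h ⟨x, hx⟩)) ?_ ?_ ?_ ?_ hx'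
    · rintro _ ⟨i, rfl⟩ hx
      apply Subtype.ext
      rcases i with i | i
      · have e1 : res g _ (pair_iff g v w) ⟨pg g v w (Sum.inl i), hx⟩ =
            ⟨pg g v w (Sum.inl (i + 1)), pg_mem g v w _⟩ := Subtype.ext (apply_zpow g v i)
        rw [e1, hu (Sum.inl (i + 1)), res_inv_coe, hu (Sum.inl i)]
        show (g ^ (-(i + 1))) w = g⁻¹ ((g ^ (-i)) w)
        rw [inv_apply_zpow]
        congr 2
        ring
      · have e1 : res g _ (pair_iff g v w) ⟨pg g v w (Sum.inr i), hx⟩ =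
            ⟨pg g v w (Sum.inr (i + 1)), pg_mem g v w _⟩ := Subtype.ext (apply_zpow g w i)
        rw [e1, hu (Sum.inr (i + 1)), res_inv_coe, hu (Sum.inr i)]
        show (g ^ (-(i + 1))) v = g⁻¹ ((g ^ (-i)) v)
        rw [inv_apply_zpow]
        congr 2
        ring
    · intro hx
      have e0 : (⟨0, hx⟩ : ↥(cyc g v ⊔ cyc g w)) = 0 := rfl
      rw [e0, map_zero, map_zero, map_zero]
    · intro x y hx hy h1 h2 hxy
      have hx'' := hle hx
      have hy'' := hle hy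
      have e0 : (⟨x + y, hxy⟩ : ↥(cyc g v ⊔ cyc g w)) = ⟨x, hx''⟩ + ⟨y, hy''⟩ := rfl
      rw [e0, map_add, map_add, map_add, map_add, h1 hx'', h2 hy'']
    · intro a x hx h1 hax
      have hx'' := hle hx
      have e0 : (⟨a • x, hax⟩ : ↥(cyc g v ⊔ cyc g w)) = a • ⟨x, hx''⟩ := rfl
      rw [e0, map_smul, map_smul, map_smul, map_smul, h1 hx'']
  rintro ⟨x, hx⟩
  exact key x hx

end Cyc

/-! ### The fixed space of an inverter -/

section Half

variable [FiniteDimensional F V]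

/-- An inverter of square one of an element without eigenvalues `±1` has a half-dimensional fixed space. -/
theorem fix_half {g h : V ≃ₗ[F] V} (h2 : h * h = 1) (hg : h * g * h⁻¹ = g⁻¹) (e1 : ∀ x, g x = x → x = 0)
    (e2 : ∀ x, g x = -x → x = 0) :
    2 * finrank F (LinearMap.ker ((h : V →ₗ[F] V) - 1)) = finrank F V := by
  rw [inverts_iff h2] at hg
  have hh : ∀ x, h (h x) = x := fun x => congrArg (fun t : V ≃ₗ[F] V => t x) h2
  have hg' : ∀ x, h (g⁻¹ x) = g (h x) := by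
    intro x
    have := hg (g⁻¹ x)
    rw [apply_inv_self'] at this
    rw [this, apply_inv_self']
  set N : V →ₗ[F] V := (g : V →ₗ[F] V) - (g⁻¹ : V ≃ₗ[F] V) with hN
  have hNa : ∀ x, N x = g x - g⁻¹ x := fun x => rfl
  have hNinj : Function.Injective N := by
    rw [injective_iff_map_eq_zero]
    intro x hx
    rw [hNa, sub_eq_zero] at hx
    have h3 : g (g x) = x := by rw [hx, apply_inv_self']
    have h4 : g x + x = 0 := by
      apply e1
      rw [map_add, h3, add_comm]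
    exact e2 x (eq_neg_of_add_eq_zero_left h4)
  have hNh : ∀ x, h (N x) = -N (h x) := by
    intro x
    rw [hNa, hNa, map_sub, hg, hg', neg_sub]
  have hNsurj : Function.Surjective N := LinearMap.injective_iff_surjective.1 hNinj
  set Kp := LinearMap.ker ((h : V →ₗ[F] V) - 1) with hKp
  set Km := LinearMap.ker ((h : V →ₗ[F] V) + 1) with hKm
  have mKp : ∀ x, x ∈ Kp ↔ h x = x := by
    intro x
    rw [hKp, LinearMap.mem_ker, LinearMap.sub_apply, sub_eq_zero]
    rfl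
  have mKm : ∀ x, x ∈ Km ↔ h x = -x := by
    intro x
    rw [hKm, LinearMap.mem_ker, LinearMap.add_apply, add_eq_zero_iff_eq_neg]
    rfl
  have h5 : Kp.map N ≤ Km := by
    rintro _ ⟨x, hx, rfl⟩
    rw [mKm, hNh, (mKp x).1 hx]
  have h6 : Km.map N ≤ Kp := by
    rintro _ ⟨x, hx, rfl⟩
    rw [mKp, hNh, (mKm x).1 hx, map_neg, neg_neg]
  have h7 : finrank F Kp ≤ finrank F Km := by
    rw [(Submodule.equivMapOfInjective N hNinj Kp).finrank_eq]
    exact Submodule.finrank_mono h5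
  have h8 : finrank F Km ≤ finrank F Kp := by
    rw [(Submodule.equivMapOfInjective N hNinj Km).finrank_eq]
    exact Submodule.finrank_mono h6
  have h9 : LinearMap.range ((h : V →ₗ[F] V) + 1) = Kp := by
    apply le_antisymm
    · rintro _ ⟨x, rfl⟩
      rw [mKp]
      show h (h x + x) = h x + x
      rw [map_add, hh, add_comm]
    · intro x hx
      obtain ⟨y, rfl⟩ := hNsurj x
      have h10 : h y = -y := by
        apply hNinj
        have := hNh y
        rw [(mKp _).1 hx] at this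
        rw [map_neg, this, neg_neg]
      refine ⟨g y, ?_⟩
      show h (g y) + g y = N y
      rw [hg, h10, hNa, map_neg]
      abel
  have h10 := LinearMap.finrank_range_add_finrank_ker ((h : V →ₗ[F] V) + 1)
  rw [h9, ← hKm] at h10
  omega

end Half

end Cfsg.Agent.H575.SR
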