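import Cfsg.Agent.H575.SR.Glue
import Cfsg.Agent.H807.SR.Tool
import Cfsg.Agent.H559.SR.PieceB
import Cfsg.Agent.H388.SR.G1c
import Mathlib

/-!
# Team SR (S4971): THEOREM PIECE assembled; the inverter of Theorem V without hypotheses (helper575)

* `pieces : Pieces F`, `pieces' : Pieces' F` for every field `F`;
* `isVert_all`, `isVert_half_all`.
-/

set_option autoImplicit false

namespace Cfsg.Agent.H575.SR

open Cfsg.Agent.H721.SR Polynomial Module

universe u v

/-- **THEOREM PIECE** -/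
theorem pieces (F : Type v) [Field F] : Pieces.{u} F := by
  intro V _ _ _ _ B ε g hS hg
  have hint : IsIntegral F (g : V →ₗ[F] V) := Algebra.IsIntegral.isIntegral _
  have hnu : ¬ IsUnit (minpoly F (g : V →ₗ[F] V)) := minpoly.not_isUnit F _
  obtain ⟨f, hf, hd⟩ := WfDvdMonoid.exists_irreducible_factor hnu (minpoly.ne_zero hint)
  by_cases hr : Associated f f.reverse
  · by_cases h1 : Associated f (X - C 1)
    · have hd1 : (X - C 1 : F[X]) ∣ minpoly F (g : V →ₗ[F] V) := h1.symm.dvd.trans hd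
      rcases hg with h2 | h2
      · rcases Cfsg.Agent.H388.SR.g1c h2 hS (Or.inl rfl) hd1 with ⟨k, v, h, -⟩ | ⟨k, v, w, h, -⟩
        · exact Or.inl ⟨_, k, v, h⟩
        · exact Or.inr ⟨_, k, v, w, h⟩
      · exfalso
        have h3 : Module.End.HasEigenvalue (g : V →ₗ[F] V) 1 :=
          Module.End.hasEigenvalue_of_isRoot (dvd_iff_isRoot.1 hd1)
        obtain ⟨x, hx⟩ := h3.exists_hasEigenvector
        have h4 : g x = x := by
          have := hx.apply_eq_smul
          rw [one_smul] at this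
          exact this
        exact hx.2 (h2 x h4)
    · by_cases h1' : Associated f (X - C (-1))
      · have hd1 : (X - C (-1) : F[X]) ∣ minpoly F (g : V →ₗ[F] V) := h1'.symm.dvd.trans hd
        by_cases h2 : (2 : F) = 0
        · exfalso
          apply h1
          have h3 : (-1 : F) = 1 := by
            have h4 : (1 : F) + 1 = 0 := by rw [← h2]; norm_num
            exact neg_eq_of_add_eq_zero_left h4
          rwa [h3] at h1'
        · rcases Cfsg.Agent.H388.SR.g1c h2 hS (Or.inr rfl) hd1 with ⟨k, v, h, -⟩ | ⟨k, v, w, h, -⟩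
          · exact Or.inl ⟨_, k, v, h⟩
          · exact Or.inr ⟨_, k, v, w, h⟩
      · left
        refine ⟨f, Cfsg.Agent.H559.SR.exists_cpiece hS hf hd hr ?_ ?_⟩
        · rwa [C_1] at h1
        · rwa [C_neg, C_1, sub_neg_eq_add] at h1'
  · right
    exact ⟨f, Cfsg.Agent.H807.SR.exists_ppiece hS hf hd hr⟩

theorem pieces' (F : Type v) [Field F] : Pieces'.{u} F := (pieces F).toPieces'

variable {F : Type v} [Field F] {V : Type u} [AddCommGroup V] [Module F V] [FiniteDimensional F V]
  {B : V →ₗ[F] V →ₗ[F] F} {ε : F} {g : V ≃ₗ[F] V}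

/-- **the inverter**, without hypotheses -/
theorem isVert_all (hS : St B ε g) (hg : (2 : F) ≠ 0 ∨ ∀ x, g x = x → x = 0) :
    ∃ h : V ≃ₗ[F] V, h * h = 1 ∧ h * g * h⁻¹ = g⁻¹ ∧ ∀ x y, B (h x) (h y) = ε * B x y :=
  isVert (pieces F) hS hg

/-- the inverter for elements without eigenvalues `±1` -/
theorem isVert_half_all (hS : St B ε g) (hg1 : ∀ x, g x = x → x = 0) (hg2 : ∀ x, g x = -x → x = 0) :
    ∃ h : V ≃ₗ[F] V, h * h = 1 ∧ h * g * h⁻¹ = g⁻¹ ∧ (∀ x y, B (h x) (h y) = ε * B x y) ∧
      2 * finrank F (LinearMap.ker ((h : V →ₗ[F] V) - 1)) = finrank F V ∧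
      finrank F (LinearMap.ker ((h : V →ₗ[F] V) - 1)) = finrank F V / 2 :=
  isVert_half (pieces' F) hS hg1 hg2

end Cfsg.Agent.H575.SR
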