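import Cfsg.Agent.H575.SR.Pieces
import Cfsg.Agent.H396.SR.Psp
import Cfsg.Agent.H84.SR.EvenFinal
import Cfsg.Agent.H893.SR.PSpThree
import Mathlib

/-!
# Team SR (S4971): the row `PSp`, without hypotheses (helper575)
-/

set_option autoImplicit false

namespace Cfsg.Agent.H575.SR

open Cfsg.Agent.H721.SR Polynomial Module

theorem two_ne_zero_of_odd {F : Type} [Field F] [Fintype F] (h : Fintype.card F % 2 = 1) : (2 : F) ≠ 0 := by
  intro h2
  have h3 : CharP F 2 := CharTwo.of_one_ne_zero_of_two_eq_zero one_ne_zero h2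
  obtain ⟨n, -, hn⟩ := FiniteField.card F 2
  have h4 : 2 ∣ Fintype.card F := by
    rw [hn]
    exact dvd_pow_self 2 n.pos.ne'
  omega

/-- the inverter for `ε = -1`, odd characteristic -/
theorem vert {F : Type} [Field F] (h2 : (2 : F) ≠ 0) : Cfsg.Agent.H396.SR.Vert F :=
  fun _ _ _ _ _ _ hS => isVert_all hS (Or.inl h2)

/-- **`PSp`, `q ≡ 1 mod 4`** -/
theorem sr_psp_one {F : Type} [Field F] [Fintype F] {m : ℕ} (hF : Fintype.card F % 4 = 1) (g : Cfsg.PSp m F) : SR g :=
  Cfsg.Agent.H396.SR.sr_psp_of hF (vert (two_ne_zero_of_odd (by omega))) g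

/-- **the row `PSp`** -/
theorem rr_psp {S : Type*} [Group S] (h : Cfsg.IsPSp S) : RR S :=
  Cfsg.Agent.H396.SR.rr_psp_of
    (fun F _ _ m hm hF => Cfsg.Agent.H893.SR.nrel_psp hm hF)
    (fun F _ _ m hF g => sr_psp_one hF g)
    (fun F _ _ m _ hF g => by
      have h2 : CharP F 2 := by
        refine CharTwo.of_one_ne_zero_of_two_eq_zero one_ne_zero ?_
        obtain ⟨p, hp⟩ := CharP.exists F
        obtain ⟨n, hpp, hn⟩ := FiniteField.card F p
        have h3 : 2 ∣ p := by
          have h4 : 2 ∣ p ^ (n : ℕ) := by rw [← hn]; exact hF.two_dvd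
          exact Nat.prime_two.dvd_of_dvd_pow h4
        have h5 : p = 2 := ((Nat.prime_dvd_prime_iff_eq Nat.prime_two hpp).1 h3).symm
        subst h5
        exact_mod_cast CharP.cast_eq_zero F 2
      exact Cfsg.Agent.H84.SREven.sr_psp g) h

end Cfsg.Agent.H575.SR
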